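import Groth.Agent.FibCrit57.Isogeny
import Groth.Agent.H98Corr.Locus
import Groth.Agent.SGA3a.SmoothWeil
import Groth.Agent.WC97.Dim
import Groth.Agent.Ega11.PointDim
import Groth.Agent.AlgGrp79.SepDense

/-!
A homomorphism of abelian varieties of equal dimension is flat iff finite.
-/

universe u

open CategoryTheory CategoryTheory.Limits MonoidalCategory CartesianMonoidalCategory MonObj GrpObj AlgebraicGeometry

namespace Groth.Agent.H98Hom

set_option maxHeartbeats 400000
set_option backward.isDefEq.respectTransparency.types false

variable {k : Type u} [Field k] {A B : Over (Spec (CommRingCat.of k))} [GrpObj A] [GrpObj B]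
  (f : A ⟶ B) [IsMonHom f]

omit [GrpObj A] [GrpObj B] [IsMonHom f] in
theorem surjective_of_finite [IsFinite f.left] [IrreducibleSpace A.left] [IrreducibleSpace B.left]
    {n : ℕ} (hA : topologicalKrullDim A.left = n) (hB : topologicalKrullDim B.left = n) :
    Surjective f.left := by
  obtain ⟨l, hl⟩ := Order.le_krullDim_iff.1
    (show (n : WithBot ℕ∞) ≤ Order.krullDim (TopologicalSpace.IrreducibleCloseds A.left) from hA.ge)
  obtain ⟨a, ha⟩ := Ega11.PointDim.exists_points_of_series l
  have hcl : IsClosed (Set.range f.left) := f.left.isClosedMap.isClosed_range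
  by_contra hns
  have hη : genericPoint B.left ∉ Set.range f.left := fun h => hns ⟨fun b =>
    hcl.closure_subset_iff.2 (Set.singleton_subset_iff.2 h)
      (show b ∈ closure {genericPoint B.left} by rw [genericPoint_closure]; trivial)⟩
  let b : ℕ → B.left := fun j => if j ≤ n then f.left (a j) else genericPoint B.left
  have hb : ∀ j < n + 1, b (j + 1) ⤳ b j ∧ b j ≠ b (j + 1) := by
    intro j hj
    by_cases h : j + 1 ≤ n
    · obtain ⟨h1, h2⟩ := ha j (by omega)
      simp only [b, if_pos h, if_pos (show j ≤ n by omega)]
      exact ⟨h1.map f.left.continuous,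
        fun e => h2 (Ega11.PointDim.eq_of_specializes_of_quasiFinite f.left h1 e.symm).symm⟩
    · simp only [b, if_neg h, if_pos (show j ≤ n by omega)]
      exact ⟨genericPoint_specializes _, fun e => hη ⟨_, e⟩⟩
  have h1 := Ega11.PointDim.natCast_le_dim (n + 1) b hb
  rw [hB] at h1
  norm_cast at h1
  omega

/-- The main equivalence. -/
theorem flat_iff_isFinite [Smooth A.hom] [IsProper A.hom] [ConnectedSpace A.left]
    [Smooth B.hom] [IsProper B.hom] [ConnectedSpace B.left]
    (hdim : topologicalKrullDim A.left = topologicalKrullDim B.left) :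
    Flat f.left ↔ IsFinite f.left := by
  have := SGA3a.irreducibleSpace_of_smooth_connected A.hom
  have := SGA3a.irreducibleSpace_of_smooth_connected B.hom
  have hn := (WC97.dim_eq A.hom).1
  have : IsReduced B.left := @AlgGrp79.isReduced_of_smooth k _ _ B.hom ‹_›
  refine ⟨fun hf => ?_, fun hf => ?_⟩
  · have : IsProper f.left :=
      haveI : IsProper (f.left ≫ B.hom) := by rw [Over.w]; infer_instance
      IsProper.of_comp f.left B.hom
    have : IsLocallyNoetherian B.left := LocallyOfFiniteType.isLocallyNoetherian B.hom
    have hfp : LocallyOfFinitePresentation f.left := inferInstance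
    have ho : IsOpen (Set.range f.left) := f.left.isOpenMap.isOpen_range
    have hc : IsClosed (Set.range f.left) := f.left.isClosedMap.isClosed_range
    have hs : Surjective f.left := ⟨Set.range_eq_univ.1
      (IsClopen.eq_univ ⟨hc, ho⟩ ⟨_, η[A].left (IsLocalRing.closedPoint k), rfl⟩)⟩
    obtain ⟨U, hU, hfin⟩ := S10860.result f.left
    have hηU : genericPoint B.left ∈ U := by
      change genericPoint B.left ∈ (U : Set B.left)
      rw [hU]
      exact H98Corr.finite_fibre_genericPoint f.left hn (hdim ▸ hn)
    have hqf : LocallyQuasiFinite f.left := by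
      obtain ⟨x, hx⟩ := f.left.surjective (genericPoint B.left)
      let K := pullback f η[B]
      have hK : IsPullback (pullback.fst f η[B]) (toUnit K) f η[B] := by
        rw [toUnit_unique (toUnit K) (pullback.snd f η[B])]
        exact IsPullback.of_hasPullback f η[B]
      obtain ⟨u, hu⟩ := FibCrit57.isPullback_ker f hK (IsPullback.of_hasPullback f f)
      let V : A.left.Opens := f.left ⁻¹ᵁ U
      have h1 : IsFinite ((pullback.snd f f).left ∣_ V) := by
        have hsq := AlgGrp79.isPullback_left (IsPullback.of_hasPullback f f)
        have hout := (isPullback_morphismRestrict (pullback.snd f f).left V).flip.paste_horiz hsq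
        rw [← morphismRestrict_ι f.left U] at hout
        have hin := (isPullback_morphismRestrict f.left U).flip
        let g := hin.lift _ ((pullback.snd f f).left ∣_ V ≫ f.left ∣_ U) (by
          rw [Category.assoc]; exact hout.w)
        refine MorphismProperty.of_isPullback (IsPullback.of_right (h₁₁ := g) ?_ (hin.lift_snd _ _ _) hin) hfin
        rw [hin.lift_fst]; exact hout
      have hK' : IsFinite (toUnit K).left := by
        have hsq := AlgGrp79.isPullback_left hu
        let toPt : V.toScheme ⟶ Spec (CommRingCat.of k) := V.ι ≫ A.hom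
        have hfl : Flat toPt := inferInstance
        have hsu : Surjective toPt := ⟨fun p => ⟨⟨x, show f.left x ∈ U from hx ▸ hηU⟩, Subsingleton.elim (α := Spec (CommRingCat.of k)) _ _⟩⟩
        haveI : IsLocallyNoetherian A.left := LocallyOfFiniteType.isLocallyNoetherian A.hom
        haveI : QuasiCompact V.ι := inferInstance
        have hqc : QuasiCompact toPt := inferInstance
        haveI := Unr55.isFinite.{u}
        exact MorphismProperty.of_isPullback_of_descendsAlong (P := @IsFinite)
          (Q := @Surjective ⊓ @Flat ⊓ @QuasiCompact)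
          ((isPullback_morphismRestrict (pullback.snd f f).left V).flip.paste_horiz hsq).flip
          ⟨⟨hsu, hfl⟩, hqc⟩ h1
      have h2 : IsFinite (pullback.snd f f).left := MorphismProperty.of_isPullback (AlgGrp79.isPullback_left hu) hK'
      haveI := Unr55.isFinite.{u}
      haveI : IsFinite f.left := MorphismProperty.of_isPullback_of_descendsAlong (P := @IsFinite)
        (Q := @Surjective ⊓ @Flat ⊓ @QuasiCompact) (AlgGrp79.isPullback_left (IsPullback.of_hasPullback f f)).flip
        ⟨⟨hs, hf⟩, inferInstance⟩ h2
      infer_instance
    exact IsFinite.of_isProper_of_locallyQuasiFinite _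
  · have := surjective_of_finite f hn (hdim ▸ hn)
    exact FibCrit57.flat_of_surjective_of_reduced f

end Groth.Agent.H98Hom
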